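import Groth.Agent.Lib.Chow.Core
import Mathlib.AlgebraicGeometry.ValuativeCriterion

/-!
# Chow's lemma
-/

set_option backward.isDefEq.respectTransparency false

universe u

open AlgebraicGeometry CategoryTheory CategoryTheory.Limits TopologicalSpace

namespace GrothLib.Chow

/-- With finitely many irreducible components, every point has an affine open dense neighbourhood. -/
theorem exists_dense_affine {X : Scheme.{u}} (hfin : (irreducibleComponents (X : Type u)).Finite)
    (x : X) : ∃ V : X.Opens, IsAffineOpen V ∧ x ∈ V ∧ Dense (V : Set X) := by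
  classical
  obtain ⟨U, hU, hxU, -⟩ := exists_isAffineOpen_mem_and_subset (x := x) (U := ⊤) trivial
  have hgfin : (genericPoints (X : Type u)).Finite := genericPoints.finite hfin
  let G := {η ∈ genericPoints (X : Type u) | η ∉ U}
  haveI : Finite G := (hgfin.subset fun η h => h.1).to_subtype
  haveI : Finite (genericPoints (X : Type u)) := hgfin.to_subtype
  have hcover : ∀ y : X, ∃ η ∈ genericPoints (X : Type u), y ∈ closure ({η} : Set X) := by
    intro y
    have hy : y ∈ closure (genericPoints (X : Type u)) := by rw [genericPoints.closure]; trivial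
    rw [← Set.biUnion_of_singleton (genericPoints (X : Type u)), hgfin.closure_biUnion] at hy
    obtain ⟨η, hη, hy⟩ := Set.mem_iUnion₂.mp hy
    exact ⟨η, hη, hy⟩
  let Ω : G → X.Opens := fun η =>
    ⟨(⋃ η' ∈ (genericPoints (X : Type u) \ {η.1}), closure ({η'} : Set X))ᶜ,
      ((hgfin.subset Set.diff_subset).isClosed_biUnion fun _ _ => isClosed_closure).isOpen_compl⟩
  have hΩ : ∀ η : G, η.1 ∈ Ω η := by
    intro η hmem
    obtain ⟨η', ⟨hη', hne⟩, h⟩ := Set.mem_iUnion₂.mp hmem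
    have hle : closure ({η.1} : Set X) ≤ closure {η'} :=
      closure_minimal (Set.singleton_subset_iff.mpr h) isClosed_closure
    have : closure ({η.1} : Set X) = closure {η'} :=
      le_antisymm hle (η.2.1.2 isIrreducible_singleton.closure hle)
    exact hne (Inseparable.eq ((inseparable_iff_closure_eq).mpr this)).symm
  choose W hW hηW hWΩ using fun η : G =>
    exists_isAffineOpen_mem_and_subset (x := η.1) (U := Ω η) (hΩ η)
  have honly : ∀ (η : G) (y : X), y ∈ W η → ∀ η' ∈ genericPoints (X : Type u),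
      y ∈ closure ({η'} : Set X) → η' = η.1 := by
    intro η y hy η' hη' hy'
    by_contra hne
    exact hWΩ η hy (Set.mem_iUnion₂.mpr ⟨η', ⟨hη', hne⟩, hy'⟩)
  have hdW : ∀ η η' : G, η ≠ η' → Disjoint (W η) (W η') := by
    intro η η' hne
    rw [disjoint_iff]
    ext y
    refine ⟨fun hy => ?_, fun h => h.elim⟩
    obtain ⟨ζ, hζ, hyζ⟩ := hcover y
    exact absurd (Subtype.ext ((honly η y hy.1 ζ hζ hyζ).symm.trans (honly η' y hy.2 ζ hζ hyζ))) hne
  have hWaff : IsAffineOpen (⨆ η, W η) :=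
    IsAffineOpen.iSup_of_disjoint hW (fun η η' hne => hdW η η' hne)
  have hUW : Disjoint U (⨆ η, W η) := by
    rw [disjoint_iff]
    ext y
    refine ⟨fun hy => ?_, fun h => h.elim⟩
    obtain ⟨η, hη⟩ := Opens.mem_iSup.mp hy.2
    obtain ⟨ζ, hζ, hyζ⟩ := hcover y
    obtain rfl := honly η y hη ζ hζ hyζ
    exact absurd ((specializes_iff_mem_closure.mpr hyζ).mem_open U.isOpen hy.1) η.2.2
  refine ⟨U ⊔ ⨆ η, W η, hU.sup_of_disjoint hWaff hUW, Or.inl hxU, ?_⟩
  refine Dense.mono ?_ (dense_iff_closure_eq.mpr genericPoints.closure)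
  intro η hη
  by_cases h : η ∈ U
  · exact Or.inl h
  · exact Or.inr (Opens.mem_iSup.mpr ⟨⟨η, hη, h⟩, hηW _⟩)

variable {X S : Scheme.{u}} (f : X ⟶ S) [CompactSpace S] [QuasiSeparatedSpace S]
  [IsSeparated f] [LocallyOfFiniteType f] [QuasiCompact f]

omit [IsSeparated f] [QuasiCompact f] [CompactSpace S] in
/-- Immersions of finitely many affine opens into projective spaces over the base. -/
theorem exists_immersions {r : ℕ} (V : Fin r → X.Opens) (hV : ∀ k, IsAffineOpen (V k)) :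
    ∃ (N : Fin r → ℕ) (j : ∀ k, (V k).toScheme ⟶ CohB1.ProjSpaceOver (N k) S),
      (∀ k, IsImmersion (j k)) ∧
        ∀ k, j k ≫ CohB1.ProjSpaceOver.toBase (N k) S = (V k).ι ≫ f := by
  have h : ∀ k, ∃ (N : ℕ) (j : (V k).toScheme ⟶ CohB1.ProjSpaceOver N S),
      IsImmersion j ∧ QuasiCompact j ∧ j ≫ CohB1.ProjSpaceOver.toBase N S = (V k).ι ≫ f := fun k => by
    haveI : IsAffine (V k).toScheme := hV k
    exact exists_immersion ((V k).ι ≫ f)
  choose N j hji _ hjb using h
  exact ⟨N, j, hji, hjb⟩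

/-- Chow's lemma when there are finitely many irreducible components. -/
theorem chow_of_finite_components (hfin : (irreducibleComponents (X : Type u)).Finite) :
    ∃ (M : ℕ) (X' : Scheme.{u}) (π : X' ⟶ X) (i : X' ⟶ CohB1.ProjSpaceOver M S),
      IsImmersion i ∧ i ≫ CohB1.ProjSpaceOver.toBase M S = π ≫ f ∧ IsProper π ∧ Surjective π ∧
        (IsReduced X → IsReduced X') ∧ (IrreducibleSpace X → IrreducibleSpace X') ∧
        ∃ U : X.Opens, Dense (U : Set X) ∧ IsIso (π ∣_ U) ∧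
          Dense ((π ⁻¹ᵁ U : X'.Opens) : Set X') := by
  haveI : CompactSpace X := QuasiCompact.compactSpace_of_compactSpace f
  haveI : QuasiSeparatedSpace X := quasiSeparatedSpace_of_quasiSeparated f
  choose V hVa hxV hVd using exists_dense_affine hfin
  obtain ⟨t, ht⟩ := isCompact_univ.elim_finite_subcover (fun x => (V x : Set X))
    (fun x => (V x).isOpen) (fun x _ => Set.mem_iUnion.mpr ⟨x, hxV x⟩)
  let r := t.card
  let V' : Fin r → X.Opens := fun k => V (t.equivFin.symm k).1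
  obtain ⟨N, j, hji, hjb⟩ := exists_immersions f V' (fun k => hVa _)
  have hcov : ⨆ k, V' k = ⊤ := by
    refine top_le_iff.mp fun x _ => ?_
    obtain ⟨y, hy, hxy⟩ := Set.mem_iUnion₂.mp (ht (Set.mem_univ x))
    exact Opens.mem_iSup.mpr ⟨t.equivFin ⟨y, hy⟩, by simpa [V'] using hxy⟩
  let U : X.Opens := Finset.univ.inf V'
  have hUd : Dense (U : Set X) ∧ IsCompact (U : Set X) := by
    refine Finset.inf_induction (s := (Finset.univ : Finset (Fin r))) (f := V')
      (p := fun O : X.Opens => Dense (O : Set X) ∧ IsCompact (O : Set X))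
      ⟨dense_univ, isCompact_univ⟩ ?_ (fun k _ => ⟨hVd _, (hVa _).isCompact⟩)
    rintro A ⟨hA, hA'⟩ B ⟨hB, hB'⟩
    exact ⟨hA.inter_of_isOpen_left hB A.isOpen,
      QuasiSeparatedSpace.inter_isCompact _ _ A.isOpen hA' B.isOpen hB'⟩
  haveI : CompactSpace U.toScheme := isCompact_iff_compactSpace.mp hUd.2
  haveI : QuasiCompact U.ι := quasiCompact_of_compactSpace U.ι
  obtain ⟨M, X', π, i, hi, hib, hπ, hiso, hdense, hrange, hred⟩ :=
    exists_modification f N V' hcov j hji hjb U (fun k => Finset.inf_le (Finset.mem_univ k))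
  refine ⟨M, X', π, i, hi, hib, hπ, ⟨Set.range_eq_univ.mp (hrange.trans hUd.1.closure_eq)⟩,
    fun _ => hred inferInstance, fun hirr => ?_, U, hUd.1, hiso, hdense⟩
  haveI := hirr
  haveI : IsIso (π ∣_ U) := hiso
  have hne : (U : Set X).Nonempty := hUd.1.nonempty
  have hUirr : IsIrreducible ((π ⁻¹ᵁ U : X'.Opens) : Set X') := by
    haveI : IrreducibleSpace U.toScheme := Subtype.irreducibleSpace
      ⟨hne, (IrreducibleSpace.isIrreducible_univ X).isPreirreducible.open_subset U.isOpen (Set.subset_univ _)⟩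
    have h1 : IsIrreducible (Set.range ((inv (π ∣_ U)) ≫ (π ⁻¹ᵁ U).ι).base) := by
      rw [← Set.image_univ]
      exact (IrreducibleSpace.isIrreducible_univ _).image _
        ((inv (π ∣_ U)) ≫ (π ⁻¹ᵁ U).ι).continuous.continuousOn
    have h2 : Set.range ((inv (π ∣_ U)) ≫ (π ⁻¹ᵁ U).ι).base = ((π ⁻¹ᵁ U : X'.Opens) : Set X') := by
      rw [Scheme.Hom.comp_base, TopCat.coe_comp, Set.range_comp,
        Set.range_eq_univ.mpr (inv (π ∣_ U)).surjective, Set.image_univ, Scheme.Opens.range_ι]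
    rwa [h2] at h1
  have h := hUirr.closure
  rw [hdense.closure_eq] at h
  exact (irreducibleSpace_def X').mpr h

omit [IsSeparated f] [LocallyOfFiniteType f] [QuasiCompact f] [CompactSpace S] [QuasiSeparatedSpace S] in
theorem universallyClosed_sigmaDesc {ι : Type u} {Y : ι → Scheme.{u}} (g : ∀ j, Y j ⟶ X)
    [∀ j, UniversallyClosed (g j)] [QuasiCompact (Sigma.desc g)] :
    UniversallyClosed (Sigma.desc g) := by
  refine UniversallyClosed.of_valuativeCriterion _ fun Sq => ?_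
  obtain ⟨⟨j, y⟩, hy⟩ := (sigmaMk Y).surjective (Sq.i₁.base default)
  rw [sigmaMk_mk] at hy
  have hr : Set.range Sq.i₁.base ⊆ Set.range (Sigma.ι Y j).base := by
    rintro _ ⟨z, rfl⟩
    exact ⟨y, hy.trans (by rw [Subsingleton.elim z default])⟩
  let a := IsOpenImmersion.lift (Sigma.ι Y j) Sq.i₁ hr
  have ha : a ≫ Sigma.ι Y j = Sq.i₁ := IsOpenImmersion.lift_fac _ _ _
  have hsq : CommSq a (Spec.map (CommRingCat.ofHom (algebraMap Sq.R Sq.K))) (g j) Sq.i₂ := by
    refine ⟨?_⟩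
    rw [← Sq.commSq.w, ← ha, Category.assoc, Sigma.ι_desc]
  have hE : ValuativeCriterion.Existence (g j) := by
    have h2 : UniversallyClosed (g j) := inferInstance
    rw [UniversallyClosed.eq_valuativeCriterion] at h2
    exact h2.1
  haveI : hsq.HasLift := hE ⟨Sq.R, Sq.K, a, Sq.i₂, hsq⟩
  exact CommSq.HasLift.mk' ⟨hsq.lift ≫ Sigma.ι Y j,
    by rw [hsq.fac_left_assoc, ha], by rw [Category.assoc, Sigma.ι_desc, hsq.fac_right]⟩

/-- Chow's lemma over a quasi-compact quasi-separated base. -/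
theorem chow :
    ∃ (M : ℕ) (X' : Scheme.{u}) (π : X' ⟶ X) (i : X' ⟶ CohB1.ProjSpaceOver M S),
      IsImmersion i ∧ i ≫ CohB1.ProjSpaceOver.toBase M S = π ≫ f ∧ IsProper π ∧ Surjective π := by
  classical
  haveI : CompactSpace X := QuasiCompact.compactSpace_of_compactSpace f
  haveI : QuasiSeparatedSpace X := quasiSeparatedSpace_of_quasiSeparated f
  -- affine cover
  choose V hV hxV _hsub using fun x : X =>
    exists_isAffineOpen_mem_and_subset (x := x) (U := ⊤) trivial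
  obtain ⟨t, ht⟩ := isCompact_univ.elim_finite_subcover (fun x => (V x : Set X))
    (fun x => (V x).isOpen) (fun x _ => Set.mem_iUnion.mpr ⟨x, hxV x⟩)
  -- for each subset, the closed stratum and its modification
  have hstep : ∀ J : Finset ↥t, ∃ (M : ℕ) (X' : Scheme.{u}) (π : X' ⟶ X)
      (i : X' ⟶ CohB1.ProjSpaceOver M S), IsImmersion i ∧
        i ≫ CohB1.ProjSpaceOver.toBase M S = π ≫ f ∧ IsProper π ∧
        ∀ x : X, (∀ u : ↥t, x ∈ V u.1 ↔ u ∈ J) → x ∈ Set.range π.base := by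
    intro J
    let Zc : Closeds X := ⟨(⋃ u ∈ (Jᶜ : Finset ↥t), (V u.1 : Set X))ᶜ,
      (isOpen_biUnion fun u _ => (V u.1).isOpen).isClosed_compl⟩
    let I := Scheme.IdealSheafData.vanishingIdeal Zc
    let ιZ := I.subschemeι
    haveI : IsSeparated (ιZ ≫ f) := inferInstance
    haveI : LocallyOfFiniteType (ιZ ≫ f) := inferInstance
    haveI : QuasiCompact (ιZ ≫ f) := inferInstance
    haveI : CompactSpace I.subscheme := QuasiCompact.compactSpace_of_compactSpace ιZ
    haveI : QuasiSeparatedSpace I.subscheme := quasiSeparatedSpace_of_quasiSeparated ιZ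
    have hrg : Set.range ιZ.base = (Zc : Set X) := by
      rw [Scheme.IdealSheafData.range_subschemeι, Scheme.IdealSheafData.coe_support_vanishingIdeal]
    let V' : Fin J.card → I.subscheme.Opens := fun k => ιZ ⁻¹ᵁ V (J.equivFin.symm k).1.1
    obtain ⟨N, j, hji, hjb⟩ := exists_immersions (ιZ ≫ f) V' (fun k => (hV _).preimage ιZ)
    have hcov : ⨆ k, V' k = ⊤ := by
      refine top_le_iff.mp fun z _ => ?_
      obtain ⟨y, hy, hxy⟩ := Set.mem_iUnion₂.mp (ht (Set.mem_univ (ιZ.base z)))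
      have hyJ : (⟨y, hy⟩ : ↥t) ∈ J := by
        by_contra h
        have hz : ιZ.base z ∈ (Zc : Set X) := hrg ▸ ⟨z, rfl⟩
        exact hz (Set.mem_iUnion₂.mpr ⟨⟨y, hy⟩, Finset.mem_compl.mpr h, hxy⟩)
      exact Opens.mem_iSup.mpr ⟨J.equivFin ⟨_, hyJ⟩, by simpa [V'] using hxy⟩
    let U : I.subscheme.Opens := Finset.univ.inf V'
    have hUc : IsCompact (U : Set I.subscheme) := by
      refine Finset.inf_induction (s := (Finset.univ : Finset (Fin J.card))) (f := V')
        (p := fun O : I.subscheme.Opens => IsCompact (O : Set I.subscheme))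
        isCompact_univ ?_ (fun k _ => ((hV _).preimage ιZ).isCompact)
      intro A hA B hB
      exact QuasiSeparatedSpace.inter_isCompact _ _ A.isOpen hA B.isOpen hB
    haveI : CompactSpace U.toScheme := isCompact_iff_compactSpace.mp hUc
    haveI : QuasiCompact U.ι := quasiCompact_of_compactSpace U.ι
    obtain ⟨M, X', π, i, hi, hib, hπ, -, -, hrange, -⟩ :=
      exists_modification (ιZ ≫ f) N V' hcov j hji hjb U (fun k => Finset.inf_le (Finset.mem_univ k))
    refine ⟨M, X', π ≫ ιZ, i, hi, by rw [hib, Category.assoc], inferInstance, fun x hx => ?_⟩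
    have hxZ : x ∈ Set.range ιZ.base := by
      rw [hrg]
      intro h
      obtain ⟨u, hu, hxu⟩ := Set.mem_iUnion₂.mp h
      exact Finset.mem_compl.mp hu ((hx u).mp hxu)
    obtain ⟨z, rfl⟩ := hxZ
    have hzU : z ∈ U := by
      change z ∈ ((Finset.univ.inf V' : I.subscheme.Opens) : Set I.subscheme)
      rw [Opens.coe_finset_inf, Finset.inf_set_eq_iInter, Set.mem_iInter₂]
      intro k _
      exact (hx _).mpr (J.equivFin.symm k).2
    have hz' : z ∈ Set.range π.base := hrange ▸ subset_closure hzU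
    obtain ⟨w, hw⟩ := hz'
    exact ⟨w, by rw [Scheme.Hom.comp_apply, hw]⟩
  choose M X' π i hi hib hπ hx using hstep
  -- index the pieces
  let m := Fintype.card (Finset ↥t)
  let e := Fintype.equivFin (Finset ↥t)
  let Y : ULift.{u} (Fin m) → Scheme.{u} := fun a => X' (e.symm a.down)
  let p : ∐ Y ⟶ X := Sigma.desc fun a => π (e.symm a.down)
  haveI : ∀ a, CompactSpace (Y a) := fun a => by
    haveI := hπ (e.symm a.down)
    exact QuasiCompact.compactSpace_of_compactSpace (π (e.symm a.down))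
  haveI : CompactSpace (∐ Y : Scheme.{u}) := (sigmaMk Y).compactSpace
  haveI : QuasiCompact p := quasiCompact_of_compactSpace p
  haveI : ∀ a : ULift.{u} (Fin m), UniversallyClosed (π (e.symm a.down)) := fun a => (hπ (e.symm a.down)).toUniversallyClosed
  haveI : UniversallyClosed p := universallyClosed_sigmaDesc _
  -- the sections used on the other pieces
  let sec : ∀ N, S ⟶ CohB1.ProjSpaceOver N S := fun N => pullback.lift
    (specULiftZIsTerminal.from S ≫ GrothLib.ProjSp.sec N (ULift.{u} ℤ)) (𝟙 S)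
    (specULiftZIsTerminal.hom_ext _ _)
  have hsec : ∀ N, sec N ≫ CohB1.ProjSpaceOver.toBase N S = 𝟙 S := fun N => pullback.lift_snd _ _ _
  let σ : ∀ a : Fin m, ∐ Y ⟶ CohB1.ProjSpaceOver (M (e.symm a)) S := fun a =>
    Sigma.desc fun b => if h : b.down = a then h ▸ i (e.symm b.down) else π (e.symm b.down) ≫ f ≫ sec _
  have hσi : ∀ a, Sigma.ι Y ⟨a⟩ ≫ σ a = i (e.symm a) := fun a => by simp [σ]
  have hσb : ∀ a, σ a ≫ CohB1.ProjSpaceOver.toBase (M (e.symm a)) S = p ≫ f := fun a => by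
    refine Sigma.hom_ext _ _ fun b => ?_
    simp only [σ, p, Sigma.ι_desc_assoc]
    by_cases h : b.down = a
    · subst h; simp [hib]
    · simp [dif_neg h, hsec]
  -- the coordinate points
  let pr : CohB1.ProjSpaceOver m S ⟶ Proj (CohB1.polyGrading m GrothLib.ProjSpCoord.RZ.{u}) :=
    pullback.fst _ _
  let δ : Fin m → Fin (m + 1) → Γ(S, ⊤) := fun a => Pi.single a.castSucc 1
  have hδ : ∀ a, IsUnit (GrothLib.ProjSpCoord.evalTuple (δ a) (MvPolynomial.X a.castSucc)) := fun a => by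
    simp [δ]
  let pt : Fin m → (S ⟶ CohB1.ProjSpaceOver m S) := fun a => pullback.lift
    (GrothLib.ProjPt.pt (CohB1.polyGrading m GrothLib.ProjSpCoord.RZ.{u})
      (GrothLib.ProjSpCoord.X_mem_one a.castSucc) one_pos
      (GrothLib.ProjPt.evalAway _ (GrothLib.ProjSpCoord.evalTuple (δ a)) _ (hδ a))) (𝟙 S)
    (specULiftZIsTerminal.hom_ext _ _)
  let D : Fin m → (CohB1.ProjSpaceOver m S).Opens := fun a =>
    pr ⁻¹ᵁ Proj.basicOpen (CohB1.polyGrading m GrothLib.ProjSpCoord.RZ.{u}) (MvPolynomial.X a.castSucc)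
  have hptD : ∀ a b, pt a ⁻¹ᵁ D b = if a = b then ⊤ else ⊥ := by
    intro a b
    simp only [D, pt, pr, ← Scheme.Hom.comp_preimage, pullback.lift_fst]
    rw [GrothLib.ProjPt.pt_evalAway_preimage_basicOpen _ (GrothLib.ProjSpCoord.X_mem_one _) one_pos _ _
      (GrothLib.ProjSpCoord.X_mem_one _) one_pos, GrothLib.ProjSpCoord.evalTuple_X]
    by_cases h : a = b
    · subst h; simp [δ]
    · rw [if_neg h, show δ a b.castSucc = 0 from Pi.single_eq_of_ne
        (fun e' => h (Fin.castSucc_injective _ e').symm) _, Scheme.basicOpen_zero]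
  let τ : ∐ Y ⟶ CohB1.ProjSpaceOver m S := Sigma.desc fun a => π (e.symm a.down) ≫ f ≫ pt a.down
  have hτb : τ ≫ CohB1.ProjSpaceOver.toBase m S = p ≫ f := by
    refine Sigma.hom_ext _ _ fun a => ?_
    simp only [τ, p, pt, Sigma.ι_desc_assoc, Category.assoc]
    erw [pullback.lift_snd, Category.comp_id]
  obtain ⟨M₀, P₀, b₀, c₀, q₀, u₀, hc₀, hcb₀, hqb₀, huq₀, hub₀⟩ :=
    exists_product (p ≫ f) m (fun a => M (e.symm a)) σ hσb
  obtain ⟨seg, hseg, hsegb⟩ := GrothLib.ProjSpSegre.exists_segre M₀ m S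
  let P := pullback b₀ (CohB1.ProjSpaceOver.toBase m S)
  let bP : P ⟶ S := pullback.fst _ _ ≫ b₀
  let mc : P ⟶ pullback (CohB1.ProjSpaceOver.toBase M₀ S) (CohB1.ProjSpaceOver.toBase m S) :=
    pullback.map _ _ _ _ c₀ (𝟙 _) (𝟙 _) (by simp [hcb₀]) (by simp)
  haveI : IsClosedImmersion mc :=
    MorphismProperty.pullbackMap (P := @IsClosedImmersion) hc₀
      (inferInstanceAs (IsClosedImmersion (𝟙 _))) hcb₀.symm (Category.id_comp _).symm
  let Mt := M₀ * m + M₀ + m
  let cP : P ⟶ CohB1.ProjSpaceOver Mt S := mc ≫ seg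
  have hcb : cP ≫ CohB1.ProjSpaceOver.toBase Mt S = bP := by
    simp only [cP, Mt, Category.assoc, hsegb, mc, bP, pullback.lift_fst_assoc, hcb₀]
  haveI : IsClosedImmersion cP := inferInstance
  let u : ∐ Y ⟶ P := pullback.lift u₀ τ (hub₀.trans hτb.symm)
  have hub : u ≫ bP = p ≫ f := by simp only [u, bP, pullback.lift_fst_assoc, hub₀]
  let qτ : P ⟶ CohB1.ProjSpaceOver m S := pullback.snd _ _
  have hqτ : u ≫ qτ = τ := pullback.lift_snd _ _ _
  have hqσ : ∀ a, ∃ q : P ⟶ CohB1.ProjSpaceOver (M (e.symm a)) S, u ≫ q = σ a := fun a =>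
    ⟨pullback.fst _ _ ≫ q₀ a, by simp only [u, pullback.lift_fst_assoc, huq₀]⟩
  haveI : IsImmersion u := by
    refine isImmersion_of_cover' u (fun a : Fin m => qτ ⁻¹ᵁ D a) ?_ fun a => ?_
    · refine top_le_iff.mp fun z _ => ?_
      obtain ⟨⟨a, y⟩, hy⟩ := (sigmaMk Y).surjective z
      rw [sigmaMk_mk] at hy
      refine Opens.mem_iSup.mpr ⟨a.down, ?_⟩
      have h : y ∈ (Sigma.ι Y a ≫ u ≫ qτ) ⁻¹ᵁ D a.down := by
        rw [hqτ, Sigma.ι_desc, Scheme.Hom.comp_preimage, Scheme.Hom.comp_preimage, hptD, if_pos rfl]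
        simp
      rw [← hy]
      exact h
    · have hle : ((u ⁻¹ᵁ (qτ ⁻¹ᵁ D a)) : Set (∐ Y : Scheme.{u})) ⊆ Set.range (Sigma.ι Y ⟨a⟩).base := by
        intro z hz
        obtain ⟨⟨b, y⟩, rfl⟩ := (sigmaMk Y).surjective z
        rw [sigmaMk_mk] at hz ⊢
        obtain ⟨b⟩ := b
        by_cases h : b = a
        · subst h; exact ⟨y, rfl⟩
        · have hy : y ∈ (Sigma.ι Y ⟨b⟩ ≫ u ≫ qτ) ⁻¹ᵁ D a := hz
          rw [hqτ, Sigma.ι_desc, Scheme.Hom.comp_preimage, Scheme.Hom.comp_preimage, hptD, if_neg h] at hy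
          simp at hy
      obtain ⟨q, hq⟩ := hqσ a
      let O := u ⁻¹ᵁ (qτ ⁻¹ᵁ D a)
      let w : O.toScheme ⟶ Y ⟨a⟩ := IsOpenImmersion.lift (Sigma.ι Y ⟨a⟩) O.ι
        (by rw [Scheme.Opens.range_ι]; exact hle)
      have hw : w ≫ Sigma.ι Y ⟨a⟩ = O.ι := IsOpenImmersion.lift_fac _ _ _
      haveI : IsOpenImmersion (w ≫ Sigma.ι Y ⟨a⟩) := by rw [hw]; infer_instance
      haveI : IsOpenImmersion w := IsOpenImmersion.of_comp w (Sigma.ι Y ⟨a⟩)
      haveI : IsImmersion ((u ∣_ qτ ⁻¹ᵁ D a) ≫ (qτ ⁻¹ᵁ D a).ι ≫ q) := by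
        rw [morphismRestrict_ι_assoc, hq]
        have hw' : O.ι ≫ σ a = w ≫ i (e.symm a) := by rw [← hw, Category.assoc, hσi]
        rw [show (u ⁻¹ᵁ qτ ⁻¹ᵁ D a).ι ≫ σ a = w ≫ i (e.symm a) from hw']
        haveI := hi (e.symm a)
        infer_instance
      exact IsImmersion.of_comp (u ∣_ qτ ⁻¹ᵁ D a) ((qτ ⁻¹ᵁ D a).ι ≫ q)
  haveI := isProper_toBase Mt S
  haveI : IsSeparated (p ≫ f) := by
    rw [← hub, ← hcb]; infer_instance
  haveI : IsSeparated p := IsSeparated.of_comp p f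
  haveI : LocallyOfFiniteType (p ≫ f) := by
    rw [← hub, ← hcb]; infer_instance
  haveI : LocallyOfFiniteType p := locallyOfFiniteType_of_comp p f
  refine ⟨Mt, ∐ Y, p, u ≫ cP, inferInstance, by rw [Category.assoc, hcb, hub], ⟨⟩, ⟨fun x => ?_⟩⟩
  obtain ⟨w, hw⟩ := hx (Finset.univ.filter fun u : ↥t => x ∈ V u.1) x (fun u => by simp)
  have key : ∀ (J : Finset ↥t), (∃ y, (π J).base y = x) → ∃ z, p.base z = x := by
    intro J hJ
    have hJ' : J = e.symm (e J) := (e.symm_apply_apply J).symm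
    rw [hJ'] at hJ
    obtain ⟨y, hy⟩ := hJ
    exact ⟨(Sigma.ι Y ⟨e J⟩).base y, by rw [← Scheme.Hom.comp_apply, Sigma.ι_desc]; exact hy⟩
  exact key _ ⟨w, hw⟩

end GrothLib.Chow
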