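import Groth.Agent.Lib.ProjSp.Segre
import Groth.Agent.Lib.ProjSp.Section
import Mathlib.AlgebraicGeometry.ProjectiveSpectrum.Proper

/-!
# Finite products of projective spaces over a base embed into one
-/

set_option backward.isDefEq.respectTransparency false

universe u

open AlgebraicGeometry CategoryTheory CategoryTheory.Limits MvPolynomial

namespace GrothLib.Chow

theorem finiteType_polyGrading (n : ℕ) (R : Type u) [CommRing R] :
    Algebra.FiniteType (CohB1.polyGrading n R 0) (MvPolynomial (Fin (n + 1)) R) := by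
  classical
  refine ⟨⟨Finset.univ.image (fun i => (X i : MvPolynomial (Fin (n + 1)) R)), ?_⟩⟩
  refine top_le_iff.mp fun p _ => ?_
  induction p using MvPolynomial.induction_on with
  | C r =>
    exact Subalgebra.algebraMap_mem _ (⟨C r, isHomogeneous_C _ r⟩ : CohB1.polyGrading n R 0)
  | add p q hp hq => exact add_mem (hp trivial) (hq trivial)
  | mul_X p i hp => exact mul_mem (hp trivial) (Algebra.subset_adjoin (by simp))

theorem isProper_toSpec (n : ℕ) (R : Type u) [CommRing R] :
    IsProper (CohB1.ProjSpace.toSpec n R) := by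
  haveI := finiteType_polyGrading n R
  haveI : IsClosedImmersion
      (Spec.map (CommRingCat.ofHom (algebraMap R (CohB1.polyGrading n R 0)))) := by
    refine IsClosedImmersion.spec_of_surjective _ fun a => ?_
    refine ⟨MvPolynomial.coeff 0 (a : MvPolynomial (Fin (n + 1)) R), Subtype.ext ?_⟩
    have ha : (a : MvPolynomial (Fin (n + 1)) R).IsHomogeneous 0 := a.2
    exact (totalDegree_eq_zero_iff_eq_C.mp ((totalDegree_zero_iff_isHomogeneous _).mpr ha)).symm
  exact inferInstanceAs (IsProper (Proj.toSpecZero (CohB1.polyGrading n R) ≫ _))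

theorem isProper_toBase (n : ℕ) (S : Scheme.{u}) : IsProper (CohB1.ProjSpaceOver.toBase n S) := by
  haveI := isProper_toSpec n (ULift.{u} ℤ)
  exact MorphismProperty.pullback_snd _ _ ‹_›

/-- Finite products of projective spaces over a base, with the embedding and universal maps. -/
theorem exists_product {S U : Scheme.{u}} (f : U ⟶ S) (r : ℕ) :
    ∀ (N : Fin r → ℕ) (i : ∀ k, U ⟶ CohB1.ProjSpaceOver (N k) S)
      (_ : ∀ k, i k ≫ CohB1.ProjSpaceOver.toBase (N k) S = f),
    ∃ (M : ℕ) (P : Scheme.{u}) (b : P ⟶ S) (c : P ⟶ CohB1.ProjSpaceOver M S)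
      (p : ∀ k, P ⟶ CohB1.ProjSpaceOver (N k) S) (uP : U ⟶ P),
      IsClosedImmersion c ∧ c ≫ CohB1.ProjSpaceOver.toBase M S = b ∧
        (∀ k, p k ≫ CohB1.ProjSpaceOver.toBase (N k) S = b) ∧
        (∀ k, uP ≫ p k = i k) ∧ uP ≫ b = f := by
  induction r with
  | zero =>
    intro N i _
    haveI : IsIso (CohB1.ProjSpaceOver.toBase 0 S) := by
      haveI := GrothLib.ProjSp.isIso_toSpec_zero (ULift.{u} ℤ)
      exact MorphismProperty.pullback_snd (P := MorphismProperty.isomorphisms Scheme) _ _ ‹_›
    exact ⟨0, S, 𝟙 S, inv (CohB1.ProjSpaceOver.toBase 0 S), fun k => k.elim0, f, inferInstance,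
      IsIso.inv_hom_id _, fun k => k.elim0, fun k => k.elim0, Category.comp_id f⟩
  | succ r ih =>
    intro N i hi
    obtain ⟨M, P, b, c, p, uP, hc, hcb, hpb, hup, hub⟩ :=
      ih (fun k => N k.castSucc) (fun k => i k.castSucc) (fun k => hi k.castSucc)
    let L := N (Fin.last r)
    obtain ⟨σ, hσ, hσb⟩ := GrothLib.ProjSpSegre.exists_segre M L S
    let P' := pullback b (CohB1.ProjSpaceOver.toBase L S)
    let m : P' ⟶ pullback (CohB1.ProjSpaceOver.toBase M S) (CohB1.ProjSpaceOver.toBase L S) :=
      pullback.map _ _ _ _ c (𝟙 _) (𝟙 _) (by simp [hcb]) (by simp)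
    haveI : IsClosedImmersion m :=
      MorphismProperty.pullbackMap (P := @IsClosedImmersion) hc
        (inferInstanceAs (IsClosedImmersion (𝟙 _))) hcb.symm (Category.id_comp _).symm
    let pr : ∀ k, P' ⟶ CohB1.ProjSpaceOver (N k) S :=
      Fin.lastCases (motive := fun k => P' ⟶ CohB1.ProjSpaceOver (N k) S) (pullback.snd _ _)
        (fun k => pullback.fst _ _ ≫ p k)
    let uP' : U ⟶ P' := pullback.lift uP (i (Fin.last r)) (hub.trans (hi (Fin.last r)).symm)
    refine ⟨M * L + M + L, P', pullback.fst _ _ ≫ b, m ≫ σ, pr, uP', inferInstance, ?_, ?_, ?_, ?_⟩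
    · rw [Category.assoc, hσb, pullback.lift_fst_assoc, Category.assoc, hcb]
    · intro k
      refine Fin.lastCases ?_ (fun k => ?_) k
      · simp only [pr, Fin.lastCases_last]
        exact pullback.condition.symm
      · simp only [pr, Fin.lastCases_castSucc, Category.assoc, hpb]
    · intro k
      refine Fin.lastCases ?_ (fun k => ?_) k
      · simp only [pr, Fin.lastCases_last]
        exact pullback.lift_snd _ _ _
      · simp only [pr, Fin.lastCases_castSucc, uP', pullback.lift_fst_assoc, hup]
    · simp only [uP', pullback.lift_fst_assoc, hub]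

end GrothLib.Chow
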