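import Groth.Agent.Lib.Chow.Main
import Groth.Agent.Lib.ProjAlg.Projective
import Groth.Agent.Lib.ProjAlg.Proper

/-!
# Chow's lemma with projective morphisms
-/

universe u

set_option backward.isDefEq.respectTransparency false

open AlgebraicGeometry CategoryTheory CategoryTheory.Limits TopologicalSpace

namespace GrothLib.Chow

variable {X S : Scheme.{u}}

/-- An immersion that is proper is a closed immersion. -/
theorem isClosedImmersion_of_isImmersion_of_isProper (i : X ⟶ S) [IsImmersion i] [IsProper i] :
    IsClosedImmersion i :=
  IsClosedImmersion.of_isPreimmersion i i.isClosedMap.isClosed_range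

/-- A proper morphism which becomes, over the base, an immersion into projective space is H-projective. -/
theorem isHProjective_modification {X' : Scheme.{u}} (f : X ⟶ S) {M : ℕ} (π : X' ⟶ X) [IsProper π]
    (i : X' ⟶ CohB1.ProjSpaceOver M S) [IsImmersion i]
    (hib : i ≫ CohB1.ProjSpaceOver.toBase M S = π ≫ f) : RelProj.IsHProjective π := by
  let j : X' ⟶ CohB1.ProjSpaceOver M X :=
    pullback.lift (i ≫ pullback.fst _ _) π (specULiftZIsTerminal.hom_ext _ _)
  have hj : j ≫ CohB1.ProjSpaceOver.toBase M X = π := pullback.lift_snd _ _ _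
  let q : CohB1.ProjSpaceOver M X ⟶ CohB1.ProjSpaceOver M S :=
    pullback.lift (pullback.fst _ _) (CohB1.ProjSpaceOver.toBase M X ≫ f) (specULiftZIsTerminal.hom_ext _ _)
  have hjq : j ≫ q = i := by
    apply pullback.hom_ext
    · rw [Category.assoc, pullback.lift_fst, pullback.lift_fst]
    · rw [Category.assoc, pullback.lift_snd, ← Category.assoc, hj]
      exact hib.symm
  haveI := GrothLib.Chow.isProper_toBase M X
  haveI : IsImmersion (j ≫ q) := hjq ▸ inferInstance
  haveI : IsImmersion j := IsImmersion.of_comp j q
  haveI : IsProper (j ≫ CohB1.ProjSpaceOver.toBase M X) := hj ▸ inferInstance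
  haveI : IsProper j := IsProper.of_comp j (CohB1.ProjSpaceOver.toBase M X)
  exact ⟨M, j, isClosedImmersion_of_isImmersion_of_isProper j, hj⟩

/-- An immersion into projective space over the base with proper structure morphism is H-projective. -/
theorem isHProjective_of_isProper (g : X ⟶ S) [IsProper g] {M : ℕ}
    (i : X ⟶ CohB1.ProjSpaceOver M S) [IsImmersion i]
    (hib : i ≫ CohB1.ProjSpaceOver.toBase M S = g) : RelProj.IsHProjective g := by
  haveI := GrothLib.Chow.isProper_toBase M S
  haveI : IsProper (i ≫ CohB1.ProjSpaceOver.toBase M S) := hib ▸ inferInstance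
  haveI : IsProper i := IsProper.of_comp i (CohB1.ProjSpaceOver.toBase M S)
  exact ⟨M, i, isClosedImmersion_of_isImmersion_of_isProper i, hib⟩

/-- The projective form of the properness criterion. -/
theorem isProper_of_surjective_projective {X' : Scheme.{u}} (f : X ⟶ S) [IsSeparated f]
    [LocallyOfFiniteType f] (g : X' ⟶ X) [Surjective g] (h : RelProj.IsProjective (g ≫ f)) :
    IsProper f := by
  haveI := GrothLib.ProjAlg.isProper_of_isProjective h
  haveI : UniversallyClosed f := UniversallyClosed.of_comp_surjective g f
  exact {}

end GrothLib.Chow
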