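import Groth.Agent.Lib.ProjSp.Coords
import Mathlib.AlgebraicGeometry.Morphisms.ClosedImmersion
import Mathlib.AlgebraicGeometry.Morphisms.Immersion
import Mathlib.AlgebraicGeometry.Morphisms.FiniteType
import Mathlib.AlgebraicGeometry.Morphisms.QuasiSeparated

/-!
# An affine scheme of finite type over any base immerses into projective space over the base
-/

set_option backward.isDefEq.respectTransparency false

universe u

open AlgebraicGeometry CategoryTheory CategoryTheory.Limits HomogeneousLocalization GrothLib.ProjPt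
  GrothLib.ProjSpCoord

namespace GrothLib.Chow

/-- Surjectivity of the restriction to a basic open of an affine scheme, algebraically. -/
theorem exists_mul_pow_eq {U : Scheme.{u}} [IsAffine U] (h : Γ(U, ⊤)) (b : Γ(U, U.basicOpen h)) :
    ∃ (a : Γ(U, ⊤)) (k : ℕ), b * (U.presheaf.map (homOfLE (U.basicOpen_le h)).op).hom h ^ k =
      (U.presheaf.map (homOfLE (U.basicOpen_le h)).op).hom a := by
  have := (isAffineOpen_top U).isLocalization_basicOpen h
  obtain ⟨⟨a, ⟨_, k, rfl⟩⟩, e⟩ := IsLocalization.surj (M := Submonoid.powers h) b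
  refine ⟨a, k, ?_⟩
  rw [← map_pow]
  exact e

theorem ι_appTop_topIso {U : Scheme.{u}} (D : U.Opens) :
    D.ι.appTop ≫ D.topIso.hom = U.presheaf.map (homOfLE (le_top : D ≤ ⊤)).op := by
  rw [Scheme.Hom.appTop, Scheme.Opens.ι_app, Scheme.Opens.topIso_hom, ← Functor.map_comp]
  rfl

section chart

variable {U S : Scheme.{u}} [IsAffine U] (f : U ⟶ S) {N : ℕ} (x : Fin N → Γ(U, ⊤))

/-- Coordinates `(1, x)`. -/
noncomputable def coordMap : MvPolynomial (Fin (N + 1)) RZ.{u} →+* Γ(U, ⊤) :=
  evalTuple (Fin.cons 1 x)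

theorem coordMap_zero : IsUnit (coordMap x (MvPolynomial.X 0)) := by
  simp [coordMap]

/-- The map to projective space over the integers given by `(1, x)`. -/
noncomputable def toPZ : U ⟶ Proj (CohB1.polyGrading N RZ.{u}) :=
  pt (CohB1.polyGrading N RZ.{u}) (X_mem_one 0) one_pos
    (evalAway (CohB1.polyGrading N RZ.{u}) (coordMap x) _ (coordMap_zero x))

/-- The map to projective space over the base given by `(1, x)`. -/
noncomputable def toPS : U ⟶ CohB1.ProjSpaceOver N S :=
  pullback.lift (toPZ x) f (specULiftZIsTerminal.hom_ext _ _)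

theorem toPS_toBase : toPS f x ≫ CohB1.ProjSpaceOver.toBase N S = f := pullback.lift_snd _ _ _

variable {V : S.Opens} (hV : IsAffineOpen V) (i : Fin N) (hle : U.basicOpen (x i) ≤ f ⁻¹ᵁ V)

include hV hle in
/-- Near `D(xᵢ)` the map is a closed immersion into an open subscheme, given algebra generators. -/
theorem exists_chart (gens : Set Γ(U, U.basicOpen (x i)))
    (hgens : ∀ b ∈ gens, ∃ (j : Fin N) (k : ℕ),
      b * (U.presheaf.map (homOfLE (U.basicOpen_le (x i))).op).hom (x i) ^ k =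
        (U.presheaf.map (homOfLE (U.basicOpen_le (x i))).op).hom (x j))
    (hgen : Subring.closure (Set.range (f.appLE V (U.basicOpen (x i)) hle).hom ∪ gens) = ⊤) :
    ∃ O : (CohB1.ProjSpaceOver N S).Opens, toPS f x ⁻¹ᵁ O = U.basicOpen (x i) ∧
      IsClosedImmersion (toPS f x ∣_ O) := by
  let 𝒜 := CohB1.polyGrading N RZ.{u}
  let z : MvPolynomial (Fin (N + 1)) RZ.{u} := MvPolynomial.X 0 * MvPolynomial.X i.succ
  have hz : z ∈ 𝒜 2 := SetLike.mul_mem_graded (X_mem_one 0) (X_mem_one i.succ)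
  let D : U.Opens := U.basicOpen (x i)
  haveI : IsAffine D.toScheme := (isAffineOpen_top U).basicOpen (x i)
  haveI : IsAffine V.toScheme := hV
  -- coordinates restricted to `D`
  let cD : MvPolynomial (Fin (N + 1)) RZ.{u} →+* Γ(D.toScheme, ⊤) := D.ι.appTop.hom.comp (coordMap x)
  have hxi : IsUnit (D.ι.appTop.hom (x i)) := by
    have h1 := RingedSpace.isUnit_res_basicOpen U.toRingedSpace (x i)
    have h2 : D.ι.appTop.hom (x i) = (D.topIso.inv).hom
        ((U.presheaf.map (homOfLE (U.basicOpen_le (x i))).op).hom (x i)) := by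
      rw [← CommRingCat.comp_apply]
      have e := (Iso.eq_comp_inv D.topIso).mpr (ι_appTop_topIso D)
      exact congrArg (fun g => g.hom (x i)) e
    rw [h2]
    exact (h1.map _)
  have hcz : IsUnit (cD z) := by
    simp only [cD, z, RingHom.comp_apply, map_mul, coordMap, evalTuple_X, Fin.cons_zero,
      Fin.cons_succ, map_one, one_mul]
    exact hxi
  let v : D.toScheme ⟶ Spec (.of (Away 𝒜 z)) :=
    D.toScheme.toSpecΓ ≫ Spec.map (CommRingCat.ofHom (evalAway 𝒜 cD z hcz))
  have hv : v ≫ Proj.awayι 𝒜 z hz two_pos = D.ι ≫ toPZ x := by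
    rw [toPZ, comp_pt, comp_evalAway _ _ _ (X_mem_one 0) (coordMap_zero x),
      pt_evalAway_eq 𝒜 (X_mem_one 0) one_pos _ _ hz two_pos hcz]
    simp only [v, pt, Category.assoc]
  let w : D.toScheme ⟶ V.toScheme := f.resLE V D hle
  let Pk := pullback (Proj.awayι 𝒜 z hz two_pos ≫ CohB1.ProjSpace.toSpec N RZ.{u})
    (V.ι ≫ specULiftZIsTerminal.from S)
  let k : D.toScheme ⟶ Pk := pullback.lift v w (specULiftZIsTerminal.hom_ext _ _)
  let ι : Pk ⟶ CohB1.ProjSpaceOver N S :=
    pullback.map _ _ _ _ (Proj.awayι 𝒜 z hz two_pos) V.ι (𝟙 _) (by simp) (by simp)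
  have hkι : k ≫ ι = D.ι ≫ toPS f x := by
    apply pullback.hom_ext
    · simp [k, ι, toPS, hv]
    · simp [k, ι, toPS, w]
  haveI : IsOpenImmersion ι := inferInstance
  haveI : IsAffine Pk := inferInstance
  -- `k` is a closed immersion
  have hk : IsClosedImmersion k := by
    refine IsClosedImmersion.of_surjective_of_isAffine k fun b => ?_
    suffices H : ∀ b, b ∈ k.appTop.hom.range from H b
    have hvr : ∀ a, evalAway 𝒜 cD z hcz a ∈ k.appTop.hom.range := by
      intro a
      have h1 : v.appTop.hom ((Scheme.ΓSpecIso (.of (Away 𝒜 z))).inv.hom a) =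
          evalAway 𝒜 cD z hcz a := by
        have h2 : (Scheme.ΓSpecIso (.of (Away 𝒜 z))).inv ≫ v.appTop =
            CommRingCat.ofHom (evalAway 𝒜 cD z hcz) := by simp [v]
        exact congrArg (fun g => g.hom a) h2
      have h3 : v = k ≫ pullback.fst _ _ := (pullback.lift_fst _ _ _).symm
      rw [← h1, h3, Scheme.Hom.comp_appTop]
      exact ⟨_, rfl⟩
    have hwr : ∀ a, (f.appLE V D hle).hom a ∈ (k.appTop ≫ D.topIso.hom).hom.range := by
      intro a
      have h3 : w = k ≫ pullback.snd _ _ := (pullback.lift_snd _ _ _).symm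
      have h4 : V.topIso.inv ≫ w.appTop ≫ D.topIso.hom = f.appLE V D hle := by
        simp [w, Scheme.Hom.resLE_appLE, Scheme.Hom.appTop, Scheme.Hom.app_eq_appLE,
          Scheme.Opens.topIso_inv, Scheme.Opens.topIso_hom]
      rw [← h4, h3, Scheme.Hom.comp_appTop]
      exact ⟨_, rfl⟩
    intro b
    suffices H : ∀ b' : Γ(U, D), b' ∈ (k.appTop ≫ D.topIso.hom).hom.range by
      obtain ⟨c, hc⟩ := H (D.topIso.hom.hom b)
      exact ⟨c, D.topIso.commRingCatIsoToRingEquiv.injective hc⟩
    intro b'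
    have hb : b' ∈ Subring.closure (Set.range (f.appLE V (U.basicOpen (x i)) hle).hom ∪ gens) := by
      rw [hgen]; trivial
    refine Subring.closure_le.mpr ?_ hb
    rintro b (⟨a, rfl⟩ | hbg)
    · exact hwr a
    · obtain ⟨j, kk, hj⟩ := hgens b hbg
      let res := (U.presheaf.map (homOfLE (U.basicOpen_le (x i))).op).hom
      have hres : ∀ a, D.topIso.hom.hom (D.ι.appTop.hom a) = res a := by
        intro a
        exact congrArg (fun g => g.hom a) (ι_appTop_topIso D)
      have hmem : ∀ y, y ∈ k.appTop.hom.range →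
          D.topIso.hom.hom y ∈ (k.appTop ≫ D.topIso.hom).hom.range := by
        rintro _ ⟨c, rfl⟩; exact ⟨c, rfl⟩
      -- `x j` and `1 / x i` are in the range
      have hcz' : cD z = D.ι.appTop.hom (x i) := by
        simp [cD, z, coordMap]
      have hzero : (MvPolynomial.X 0 * MvPolynomial.X 0 : MvPolynomial (Fin (N + 1)) RZ.{u}) ∈ 𝒜 (1 • 2) := by
        rw [one_smul]; exact SetLike.mul_mem_graded (X_mem_one 0) (X_mem_one 0)
      have hjmem : (MvPolynomial.X j.succ * MvPolynomial.X i.succ : MvPolynomial (Fin (N + 1)) RZ.{u})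
          ∈ 𝒜 (1 • 2) := by
        rw [one_smul]; exact SetLike.mul_mem_graded (X_mem_one _) (X_mem_one _)
      have hxj : D.topIso.hom.hom (D.ι.appTop.hom (x j)) ∈ (k.appTop ≫ D.topIso.hom).hom.range := by
        refine hmem _ ?_
        have h := evalAway_mk_spec 𝒜 cD hz hcz 1 _ hjmem
        rw [pow_one, hcz'] at h
        have h5 : cD (MvPolynomial.X j.succ * MvPolynomial.X i.succ) =
            D.ι.appTop.hom (x j) * D.ι.appTop.hom (x i) := by simp [cD, coordMap]
        rw [h5] at h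
        exact hxi.mul_left_injective h ▸ hvr _
      obtain ⟨c, hc, hc1⟩ : ∃ c ∈ (k.appTop ≫ D.topIso.hom).hom.range, c * res (x i) = 1 := by
        refine ⟨_, hmem _ (hvr (Away.mk 𝒜 hz 1 _ hzero)), ?_⟩
        have h := evalAway_mk_spec 𝒜 cD hz hcz 1 _ hzero
        rw [pow_one, hcz'] at h
        rw [← hres, ← map_mul, h]
        simp [cD, coordMap]
      have hbeq : b = res (x j) * c ^ kk := by
        calc b = b * (c * res (x i)) ^ kk := by rw [hc1, one_pow, mul_one]
          _ = (b * res (x i) ^ kk) * c ^ kk := by rw [mul_pow]; ring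
          _ = res (x j) * c ^ kk := congrArg (· * c ^ kk) hj
      rw [hbeq]
      exact mul_mem (hres (x j) ▸ hxj) (pow_mem hc _)
  -- the preimage
  have hrange : toPS f x ⁻¹ᵁ ι.opensRange = D := by
    apply le_antisymm
    · intro u hu
      obtain ⟨p, hp⟩ := hu
      have hu' : u ∈ toPZ x ⁻¹ᵁ Proj.basicOpen 𝒜 z := by
        have h1 : (pullback.fst _ _ : CohB1.ProjSpaceOver N S ⟶ _).base ((toPS f x).base u) =
            (toPZ x).base u := by
          exact congrArg (fun g : U ⟶ _ => g.base u) (pullback.lift_fst (toPZ x) f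
            (specULiftZIsTerminal.hom_ext _ _))
        change (toPZ x).base u ∈ Proj.basicOpen 𝒜 z
        rw [← h1, ← hp, ← Proj.opensRange_awayι 𝒜 z hz two_pos]
        have h2 : ι ≫ pullback.fst _ _ =
            (pullback.fst _ _ : Pk ⟶ _) ≫ Proj.awayι 𝒜 z hz two_pos := pullback.lift_fst _ _ _
        exact ⟨(pullback.fst _ _ : Pk ⟶ _).base p, (congrArg (fun g : Pk ⟶ _ => g.base p) h2).symm⟩
      rw [toPZ, pt_evalAway_preimage_basicOpen 𝒜 (X_mem_one 0) one_pos _ _ hz two_pos] at hu'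
      simpa [z, coordMap] using hu'
    · intro u hu
      refine ⟨k.base ⟨u, hu⟩, ?_⟩
      rw [← Scheme.Hom.comp_apply, hkι]
      rfl
  refine ⟨ι.opensRange, hrange, ?_⟩
  have hpb : IsPullback k D.ι ι (toPS f x) :=
    IsOpenImmersion.isPullback k D.ι ι (toPS f x) hkι.symm (by rw [hrange, Scheme.Opens.opensRange_ι])
  exact (MorphismProperty.arrow_mk_iso_iff @IsClosedImmersion
    (morphismRestrictOpensRange (toPS f x) ι)).mpr
      (by
        have he := IsPullback.of_hasPullback (toPS f x) ι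
        rw [← he.isoIsPullback_hom_snd _ _ hpb.flip]
        exact (MorphismProperty.cancel_left_of_respectsIso @IsClosedImmersion _ _).mpr hk)

end chart

/-- An affine scheme locally of finite type over any quasi-separated base immerses, quasi-compactly,
into some projective space over the base. -/
theorem exists_immersion {U S : Scheme.{u}} [IsAffine U] [QuasiSeparatedSpace S] (f : U ⟶ S)
    [LocallyOfFiniteType f] :
    ∃ (N : ℕ) (j : U ⟶ CohB1.ProjSpaceOver N S),
      IsImmersion j ∧ QuasiCompact j ∧ j ≫ CohB1.ProjSpaceOver.toBase N S = f := by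
  classical
  have key : ∀ u : U, ∃ (V : S.Opens) (h : Γ(U, ⊤)), IsAffineOpen V ∧ u ∈ U.basicOpen h ∧
      U.basicOpen h ≤ f ⁻¹ᵁ V := by
    intro u
    obtain ⟨V, hV, hfu, -⟩ := exists_isAffineOpen_mem_and_subset (x := f.base u) (U := ⊤) trivial
    obtain ⟨h, hh, hu⟩ := (isAffineOpen_top U).exists_basicOpen_le (V := f ⁻¹ᵁ V) ⟨u, hfu⟩ trivial
    exact ⟨V, h, hV, hu, hh⟩
  choose V h hV hu hle using key
  obtain ⟨t, ht⟩ := isCompact_univ.elim_finite_subcover (fun u => (U.basicOpen (h u) : Set U))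
    (fun u => (U.basicOpen (h u)).isOpen) (fun u _ => Set.mem_iUnion.mpr ⟨u, hu u⟩)
  have hgen : ∀ u, ∃ s : Finset Γ(U, U.basicOpen (h u)),
      Subring.closure (Set.range (f.appLE (V u) (U.basicOpen (h u)) (hle u)).hom ∪ (s : Set _)) = ⊤ := by
    intro u
    have hft := LocallyOfFiniteType.finiteType_of_affine_subset (f := f) (hV u)
      ((isAffineOpen_top U).basicOpen (h u)) (hle u)
    letI := (f.appLE (V u) (U.basicOpen (h u)) (hle u)).hom.toAlgebra
    obtain ⟨s, hs⟩ := hft.out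
    refine ⟨s, ?_⟩
    have h2 := congrArg Subalgebra.toSubring hs
    rw [Algebra.adjoin_eq_ring_closure, Algebra.top_toSubring] at h2
    exact h2
  choose s hs using hgen
  have hnum : ∀ (u : U) (b : Γ(U, U.basicOpen (h u))), ∃ (a : Γ(U, ⊤)) (k : ℕ),
      b * (U.presheaf.map (homOfLE (U.basicOpen_le (h u))).op).hom (h u) ^ k =
        (U.presheaf.map (homOfLE (U.basicOpen_le (h u))).op).hom a :=
    fun u b => exists_mul_pow_eq (h u) b
  choose num pw hnumspec using hnum
  -- the coordinates: all `h`'s and all numerators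
  let J := (↥t) ⊕ (Σ u : ↥t, ↥(s u.1))
  let c : J → Γ(U, ⊤) := Sum.elim (fun u => h u.1) (fun p => num p.1.1 p.2.1)
  let N := Fintype.card J
  let e : J ≃ Fin N := Fintype.equivFin J
  let x : Fin N → Γ(U, ⊤) := fun i => c (e.symm i)
  have hchart : ∀ u : ↥t, ∃ O : (CohB1.ProjSpaceOver N S).Opens,
      toPS f x ⁻¹ᵁ O = U.basicOpen (h u.1) ∧ IsClosedImmersion (toPS f x ∣_ O) := by
    intro u
    obtain ⟨i, hi⟩ : ∃ i, i = e (Sum.inl u) := ⟨_, rfl⟩
    have hxi : x i = h u.1 := by simp [x, c, hi]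
    have H : ∀ (y : Γ(U, ⊤)), y = h u.1 → ∀ (hley : U.basicOpen y ≤ f ⁻¹ᵁ V u.1),
        ∃ gens : Set Γ(U, U.basicOpen y), (∀ b ∈ gens, ∃ (j : Fin N) (k : ℕ),
          b * (U.presheaf.map (homOfLE (U.basicOpen_le y)).op).hom y ^ k =
            (U.presheaf.map (homOfLE (U.basicOpen_le y)).op).hom (x j)) ∧
        Subring.closure (Set.range (f.appLE (V u.1) (U.basicOpen y) hley).hom ∪ gens) = ⊤ := by
      rintro y rfl hley
      refine ⟨(s u.1 : Set _), fun b hb => ⟨e (Sum.inr ⟨u, b, hb⟩), pw u.1 b, ?_⟩, hs u.1⟩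
      rw [hnumspec u.1 b]
      simp [x, c]
    have hle' : U.basicOpen (x i) ≤ f ⁻¹ᵁ V u.1 := hxi ▸ hle u.1
    obtain ⟨gens, hg1, hg2⟩ := H (x i) hxi hle'
    obtain ⟨O, hO, hO'⟩ := exists_chart f x (hV u.1) i hle' gens hg1 hg2
    exact ⟨O, hO.trans (congrArg U.basicOpen hxi), hO'⟩
  choose O hO hO' using hchart
  let W : (CohB1.ProjSpaceOver N S).Opens := ⨆ u, O u
  have hW : toPS f x ⁻¹ᵁ W = ⊤ := by
    refine top_le_iff.mp fun y _ => ?_
    obtain ⟨u, hut, hyu⟩ := Set.mem_iUnion₂.mp (ht (Set.mem_univ y))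
    have hy : y ∈ toPS f x ⁻¹ᵁ O ⟨u, hut⟩ := by rw [hO]; exact hyu
    exact Scheme.Hom.preimage_mono (toPS f x) (le_iSup O ⟨u, hut⟩) hy
  have hci : IsClosedImmersion (toPS f x ∣_ W) := by
    refine IsZariskiLocalAtTarget.of_iSup_eq_top (P := @IsClosedImmersion)
      (fun u => W.ι ⁻¹ᵁ O u) ?_ fun u => ?_
    · rw [← Scheme.Hom.preimage_iSup]
      exact W.ι_preimage_self
    · exact (MorphismProperty.arrow_mk_iso_iff @IsClosedImmersion
        (morphismRestrictRestrict (toPS f x) W (W.ι ⁻¹ᵁ O u))).mpr (by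
          rw [show W.ι ''ᵁ (W.ι ⁻¹ᵁ O u) = O u from by
            rw [Scheme.Hom.image_preimage_eq_opensRange_inf, Scheme.Opens.opensRange_ι]
            exact inf_eq_right.mpr (le_iSup O u)]
          exact hO' u)
  have hj : IsImmersion (toPS f x) := by
    have h1 : IsImmersion ((toPS f x ∣_ W) ≫ W.ι) := inferInstance
    rw [morphismRestrict_ι] at h1
    have h2 : (Scheme.isoOfEq U hW.symm).hom ≫ (toPS f x ⁻¹ᵁ W).ι = Scheme.Opens.ι _ :=
      Scheme.isoOfEq_hom_ι _ _
    have : IsIso (toPS f x ⁻¹ᵁ W).ι := by rw [hW, ← Scheme.topIso_hom]; infer_instance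
    exact (MorphismProperty.cancel_left_of_respectsIso @IsImmersion (toPS f x ⁻¹ᵁ W).ι _).mp h1
  haveI : QuasiCompact (toPS f x ≫ CohB1.ProjSpaceOver.toBase N S) := by
    rw [toPS_toBase]; exact quasiCompact_of_compactSpace f
  haveI : QuasiSeparated (CohB1.ProjSpaceOver.toBase N S) := by
    haveI : IsSeparated (CohB1.ProjSpace.toSpec N RZ.{u}) := by
      haveI : (CohB1.ProjSpace N RZ.{u}).IsSeparated := inferInstanceAs (Scheme.IsSeparated (Proj _))
      infer_instance
    haveI : IsSeparated (CohB1.ProjSpaceOver.toBase N S) :=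
      MorphismProperty.pullback_snd _ _ ‹_›
    infer_instance
  exact ⟨N, toPS f x, hj, QuasiCompact.of_comp (toPS f x) (CohB1.ProjSpaceOver.toBase N S),
    toPS_toBase f x⟩

end GrothLib.Chow
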