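import Groth.Agent.Lib.Chow.Embed
import Groth.Agent.Lib.Chow.Prod
import Mathlib.AlgebraicGeometry.Morphisms.SchemeTheoreticallyDominant

/-!
# The construction in Chow's lemma
-/

set_option backward.isDefEq.respectTransparency false

universe u

open AlgebraicGeometry CategoryTheory CategoryTheory.Limits TopologicalSpace

namespace GrothLib.Chow

/-- A scheme-theoretically dominant morphism factors through no proper closed subscheme. -/
theorem isIso_of_factors {W X E : Scheme.{u}} (ι : W ⟶ X) [IsSchemeTheoreticallyDominant ι]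
    (e : E ⟶ X) [IsClosedImmersion e] (s : W ⟶ E) (h : s ≫ e = ι) : IsIso e := by
  rw [IsClosedImmersion.isIso_iff_ker_eq_bot, ← le_bot_iff, ← ι.ker_eq_bot, ← h]
  exact Scheme.Hom.le_ker_comp s e

/-- Morphisms to a separated scheme agree if they agree on a scheme-theoretically dominant source. -/
theorem ext_of_stdDominant {W X Y T : Scheme.{u}} (ι : W ⟶ X) [IsSchemeTheoreticallyDominant ι]
    (g : Y ⟶ T) [IsSeparated g] {a b : X ⟶ Y} (hab : a ≫ g = b ≫ g) (h : ι ≫ a = ι ≫ b) :
    a = b := by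
  let e := pullback.snd (pullback.diagonal g) (pullback.lift a b hab)
  let s : W ⟶ pullback (pullback.diagonal g) (pullback.lift a b hab) :=
    pullback.lift (ι ≫ a) ι (by
      apply pullback.hom_ext
      · simp
      · simp [h])
  haveI : IsClosedImmersion e := MorphismProperty.pullback_snd _ _ inferInstance
  haveI : IsIso e := isIso_of_factors ι e s (pullback.lift_snd _ _ _)
  have c1 : pullback.fst (pullback.diagonal g) (pullback.lift a b hab) = e ≫ a := by
    simpa using congrArg (· ≫ pullback.fst g g)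
      (pullback.condition (f := pullback.diagonal g) (g := pullback.lift a b hab))
  have c2 : pullback.fst (pullback.diagonal g) (pullback.lift a b hab) = e ≫ b := by
    simpa using congrArg (· ≫ pullback.snd g g)
      (pullback.condition (f := pullback.diagonal g) (g := pullback.lift a b hab))
  exact (cancel_epi e).mp (c1.symm.trans c2)

/-- The map to the scheme-theoretic image is scheme-theoretically dominant. -/
theorem stdDominant_toImage {X Y : Scheme.{u}} (g : X ⟶ Y) [QuasiCompact g] :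
    IsSchemeTheoreticallyDominant g.toImage := by
  have h1 : g.ker ≤ (g.toImage.imageι ≫ g.imageι).ker := by
    refine le_trans (le_of_eq ?_) (Scheme.Hom.le_ker_comp _ _)
    rw [Scheme.Hom.imageι, Scheme.IdealSheafData.ker_subschemeι]
  have h2 : (g.toImage.imageι ≫ g.imageι).ker ≤ g.ker := by
    conv_rhs => rw [← g.toImage_imageι, ← g.toImage.toImage_imageι, Category.assoc]
    exact Scheme.Hom.le_ker_comp _ _
  haveI : IsIso g.toImage.imageι := IsClosedImmersion.isIso_of_ker_eq
    (g.toImage.imageι ≫ g.imageι) g.imageι g.toImage.imageι rfl (by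
      rw [le_antisymm h2 h1, Scheme.Hom.imageι, Scheme.IdealSheafData.ker_subschemeι])
  have h3 : g.toImage.imageι.ker = g.toImage.ker := Scheme.IdealSheafData.ker_subschemeι _
  exact ⟨h3 ▸ IsClosedImmersion.isIso_iff_ker_eq_bot.mp inferInstance⟩

theorem stdDominant_restrict {X Y : Scheme.{u}} (g : X ⟶ Y) [IsSchemeTheoreticallyDominant g]
    [QuasiCompact g] (O : Y.Opens) : IsSchemeTheoreticallyDominant (g ∣_ O) :=
  IsSchemeTheoreticallyDominant.of_isPullback (isPullback_morphismRestrict g O).flip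

/-- A morphism that is a closed immersion over opens covering the source is an immersion. -/
theorem isImmersion_of_cover {X Y : Scheme.{u}} (g : X ⟶ Y) {ι : Type*} (O : ι → Y.Opens)
    (hcov : ⨆ i, g ⁻¹ᵁ O i = ⊤) (h : ∀ i, IsClosedImmersion (g ∣_ O i)) : IsImmersion g := by
  let W : Y.Opens := ⨆ i, O i
  have hW : g ⁻¹ᵁ W = ⊤ := by rw [Scheme.Hom.preimage_iSup, hcov]
  have hci : IsClosedImmersion (g ∣_ W) := by
    refine IsZariskiLocalAtTarget.of_iSup_eq_top (P := @IsClosedImmersion)
      (fun u => W.ι ⁻¹ᵁ O u) ?_ fun u => ?_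
    · rw [← Scheme.Hom.preimage_iSup]
      exact W.ι_preimage_self
    · refine (MorphismProperty.arrow_mk_iso_iff @IsClosedImmersion
        (morphismRestrictRestrict g W (W.ι ⁻¹ᵁ O u))).mpr ?_
      rw [show W.ι ''ᵁ (W.ι ⁻¹ᵁ O u) = O u from by
        rw [Scheme.Hom.image_preimage_eq_opensRange_inf, Scheme.Opens.opensRange_ι]
        exact inf_eq_right.mpr (le_iSup O u)]
      exact h u
  have h1 : IsImmersion ((g ∣_ W) ≫ W.ι) := inferInstance
  rw [morphismRestrict_ι] at h1
  haveI : IsIso (g ⁻¹ᵁ W).ι := by rw [hW, ← Scheme.topIso_hom]; infer_instance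
  exact (MorphismProperty.cancel_left_of_respectsIso @IsImmersion (g ⁻¹ᵁ W).ι _).mp h1

/-- A morphism that is an immersion over opens whose preimages cover the source is an immersion. -/
theorem isImmersion_of_cover' {X Y : Scheme.{u}} (g : X ⟶ Y) {ι : Type*} (O : ι → Y.Opens)
    (hcov : ⨆ i, g ⁻¹ᵁ O i = ⊤) (h : ∀ i, IsImmersion (g ∣_ O i)) : IsImmersion g := by
  let W : Y.Opens := ⨆ i, O i
  have hW : g ⁻¹ᵁ W = ⊤ := by rw [Scheme.Hom.preimage_iSup, hcov]
  have hci : IsImmersion (g ∣_ W) := by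
    refine IsZariskiLocalAtTarget.of_iSup_eq_top (P := @IsImmersion)
      (fun u => W.ι ⁻¹ᵁ O u) ?_ fun u => ?_
    · rw [← Scheme.Hom.preimage_iSup]
      exact W.ι_preimage_self
    · refine (MorphismProperty.arrow_mk_iso_iff @IsImmersion
        (morphismRestrictRestrict g W (W.ι ⁻¹ᵁ O u))).mpr ?_
      rw [show W.ι ''ᵁ (W.ι ⁻¹ᵁ O u) = O u from by
        rw [Scheme.Hom.image_preimage_eq_opensRange_inf, Scheme.Opens.opensRange_ι]
        exact inf_eq_right.mpr (le_iSup O u)]
      exact h u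
  have h1 : IsImmersion ((g ∣_ W) ≫ W.ι) := inferInstance
  rw [morphismRestrict_ι] at h1
  haveI : IsIso (g ⁻¹ᵁ W).ι := by rw [hW, ← Scheme.topIso_hom]; infer_instance
  exact (MorphismProperty.cancel_left_of_respectsIso @IsImmersion (g ⁻¹ᵁ W).ι _).mp h1

section core

variable {X S : Scheme.{u}} (f : X ⟶ S) [IsSeparated f] [QuasiSeparatedSpace S]

/-- The main construction: given opens covering `X`, each immersed in a projective space over `S`,
and a quasi-compact open contained in all of them. -/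
theorem exists_modification {r : ℕ} (N : Fin r → ℕ) (V : Fin r → X.Opens) (hV : ⨆ k, V k = ⊤)
    (j : ∀ k, (V k).toScheme ⟶ CohB1.ProjSpaceOver (N k) S) (hji : ∀ k, IsImmersion (j k))
    (hjb : ∀ k, j k ≫ CohB1.ProjSpaceOver.toBase (N k) S = (V k).ι ≫ f)
    (U : X.Opens) [QuasiCompact U.ι] (hU : ∀ k, U ≤ V k) :
    ∃ (M : ℕ) (X' : Scheme.{u}) (π : X' ⟶ X) (i : X' ⟶ CohB1.ProjSpaceOver M S),
      IsImmersion i ∧ i ≫ CohB1.ProjSpaceOver.toBase M S = π ≫ f ∧ IsProper π ∧
        IsIso (π ∣_ U) ∧ Dense ((π ⁻¹ᵁ U : X'.Opens) : Set X') ∧ Set.range π.base = closure (U : Set X) ∧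
        (IsReduced U.toScheme → IsReduced X') := by
  obtain ⟨M, P, b, c, p, uP, hc, hcb, hpb, hup, hub⟩ := exists_product (U.ι ≫ f) r N
    (fun k => X.homOfLE (hU k) ≫ j k) (fun k => by rw [Category.assoc, hjb, Scheme.homOfLE_ι_assoc])
  haveI := isProper_toBase M S
  haveI : IsProper b := hcb ▸ inferInstance
  let g : U.toScheme ⟶ pullback f b := pullback.lift U.ι uP hub.symm
  have hg : g ≫ pullback.fst f b = U.ι := pullback.lift_fst _ _ _
  haveI : IsImmersion g := by
    haveI : IsImmersion (g ≫ pullback.fst f b) := by rw [hg]; infer_instance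
    exact IsImmersion.of_comp g (pullback.fst f b)
  haveI : QuasiCompact g := by
    haveI : QuasiCompact (g ≫ pullback.fst f b) := by rw [hg]; infer_instance
    exact QuasiCompact.of_comp g (pullback.fst f b)
  let τ : U.toScheme ⟶ g.image := g.toImage
  let π : g.image ⟶ X := g.imageι ≫ pullback.fst f b
  let h : g.image ⟶ P := g.imageι ≫ pullback.snd f b
  haveI : IsSchemeTheoreticallyDominant τ := stdDominant_toImage g
  haveI : IsProper π := inferInstance
  have hτπ : τ ≫ π = U.ι := by simp only [τ, π, g.toImage_imageι_assoc, hg]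
  have hτh : τ ≫ h = uP := by simp only [τ, h, g.toImage_imageι_assoc, g, pullback.lift_snd]
  have hπf : π ≫ f = h ≫ b := by simp only [π, h, Category.assoc, pullback.condition]
  -- over `V k`
  have key : ∀ k, ∃ W : P.Opens, h ⁻¹ᵁ W = π ⁻¹ᵁ V k ∧ IsClosedImmersion (h ∣_ W) := by
    intro k
    haveI := hji k
    haveI := isProper_toBase (N k) S
    let Vk := (j k).coborderRange
    let κ := (j k).liftCoborder
    let O : g.image.Opens := π ⁻¹ᵁ V k
    have eO : O.ι ≫ h ≫ p k = (π ∣_ V k) ≫ j k := by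
      haveI := stdDominant_restrict τ O
      refine ext_of_stdDominant (τ ∣_ O) (CohB1.ProjSpaceOver.toBase (N k) S) ?_ ?_
      · simp only [Category.assoc, hpb, hjb, morphismRestrict_ι_assoc, ← hπf]
        rfl
      · rw [morphismRestrict_ι_assoc, reassoc_of% hτh, hup, ← Category.assoc, ← Category.assoc]
        congr 1
        rw [← cancel_mono (V k).ι, Category.assoc, Category.assoc, Scheme.homOfLE_ι,
          morphismRestrict_ι, morphismRestrict_ι_assoc, hτπ]
    let Y : g.image.Opens := (h ≫ p k) ⁻¹ᵁ Vk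
    have hOY : O ≤ Y := by
      intro x hx
      change (h ≫ p k).base x ∈ Vk
      have hx' := congrArg (fun m => m.base (⟨x, hx⟩ : O.toScheme)) eO
      refine (Eq.symm hx') ▸ ?_
      rw [← (j k).liftCoborder_ι]
      exact (((π ∣_ V k) ≫ κ).base ⟨x, hx⟩).2
    let y : Y.toScheme ⟶ Vk.toScheme := (h ≫ p k) ∣_ Vk
    let E := pullback y κ
    let e : E ⟶ Y.toScheme := pullback.fst y κ
    let q : E ⟶ (V k).toScheme := pullback.snd y κ
    haveI : IsClosedImmersion e := MorphismProperty.pullback_fst _ _ inferInstance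
    have hover : (e ≫ Y.ι ≫ π) ≫ f = (q ≫ (V k).ι) ≫ f := by
      calc (e ≫ Y.ι ≫ π) ≫ f = e ≫ y ≫ Vk.ι ≫ CohB1.ProjSpaceOver.toBase (N k) S := by
            simp only [Category.assoc, y, morphismRestrict_ι_assoc, hπf, hpb]
            simp only [Y]
        _ = q ≫ j k ≫ CohB1.ProjSpaceOver.toBase (N k) S := by
            rw [pullback.condition_assoc, (j k).liftCoborder_ι_assoc]
        _ = (q ≫ (V k).ι) ≫ f := by rw [hjb, Category.assoc]
    let D := pullback (pullback.diagonal f) (pullback.lift (e ≫ Y.ι ≫ π) (q ≫ (V k).ι) hover)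
    let d : D ⟶ E := pullback.snd (pullback.diagonal f) (pullback.lift (e ≫ Y.ι ≫ π) (q ≫ (V k).ι) hover)
    haveI : IsClosedImmersion d := MorphismProperty.pullback_snd _ _ inferInstance
    let sE : (τ ⁻¹ᵁ Y).toScheme ⟶ E :=
      pullback.lift (τ ∣_ Y) ((τ ⁻¹ᵁ Y).ι ≫ X.homOfLE (hU k)) (by
        rw [← cancel_mono Vk.ι]
        simp only [Category.assoc, y, morphismRestrict_ι, κ, (j k).liftCoborder_ι]
        rw [morphismRestrict_ι_assoc, reassoc_of% hτh, hup]
        exact congrArg (fun m => (τ ⁻¹ᵁ Y).ι ≫ X.homOfLE (hU k) ≫ m) (j k).liftCoborder_ι.symm)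
    let sD : (τ ⁻¹ᵁ Y).toScheme ⟶ D := pullback.lift ((τ ⁻¹ᵁ Y).ι ≫ U.ι) sE (by
      apply pullback.hom_ext
      · simp only [Category.assoc, pullback.diagonal_fst, Category.comp_id, pullback.lift_fst,
          sE, e, pullback.lift_fst_assoc, morphismRestrict_ι_assoc, hτπ]
      · simp only [Category.assoc, pullback.diagonal_snd, Category.comp_id, pullback.lift_snd,
          sE, q, pullback.lift_snd_assoc, Scheme.homOfLE_ι])
    haveI := stdDominant_restrict τ Y
    haveI : IsIso (d ≫ e) := isIso_of_factors (τ ∣_ Y) (d ≫ e) sD (by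
      rw [← Category.assoc, pullback.lift_snd]
      exact pullback.lift_fst _ _ _)
    let q' : Y.toScheme ⟶ (V k).toScheme := inv (d ≫ e) ≫ d ≫ q
    have hq' : q' ≫ (V k).ι = Y.ι ≫ π := by
      have c1 := congrArg (· ≫ pullback.fst f f) (pullback.condition (f := pullback.diagonal f)
        (g := pullback.lift (e ≫ Y.ι ≫ π) (q ≫ (V k).ι) hover))
      have c2 := congrArg (· ≫ pullback.snd f f) (pullback.condition (f := pullback.diagonal f)
        (g := pullback.lift (e ≫ Y.ι ≫ π) (q ≫ (V k).ι) hover))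
      simp only [Category.assoc, pullback.diagonal_fst, pullback.diagonal_snd, Category.comp_id,
        pullback.lift_fst, pullback.lift_snd] at c1 c2
      simp only [q', Category.assoc, IsIso.inv_comp_eq]
      exact (c2.symm.trans c1)
    have hYO : Y ≤ O := fun x hx => by
      have hx' := congrArg (fun m => m.base (⟨x, hx⟩ : Y.toScheme)) hq'
      change π.base x ∈ V k
      exact Set.mem_of_eq_of_mem hx'.symm (q'.base ⟨x, hx⟩).2
    have hYeq : Y = O := le_antisymm hYO hOY
    -- the closed immersion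
    let Pk : P.Opens := p k ⁻¹ᵁ Vk
    have hpre : h ⁻¹ᵁ Pk = O := hYeq
    let T := pullback (p k ∣_ Vk) κ
    let ρ : (h ⁻¹ᵁ Pk).toScheme ⟶ pullback ((V k).ι ≫ f) (Pk.ι ≫ b) :=
      pullback.lift q' (h ∣_ Pk) (by
        rw [morphismRestrict_ι_assoc, ← hπf, reassoc_of% hq']
        rfl)
    let μ : pullback ((V k).ι ≫ f) (Pk.ι ≫ b) ⟶ pullback f b :=
      pullback.map _ _ _ _ (V k).ι Pk.ι (𝟙 _) (by simp) (by simp)
    have hρμ : ρ ≫ μ = (h ⁻¹ᵁ Pk).ι ≫ g.imageι := by
      apply pullback.hom_ext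
      · simp only [ρ, μ, Category.assoc, pullback.lift_fst, pullback.lift_fst_assoc, hq']
        rfl
      · simp only [ρ, μ, Category.assoc, pullback.lift_snd, pullback.lift_snd_assoc,
          morphismRestrict_ι]
        rfl
    have hpreμ : g.imageι ⁻¹ᵁ μ.opensRange = h ⁻¹ᵁ Pk := by
      apply le_antisymm
      · rintro x ⟨z, hz⟩
        have hfst : (μ ≫ pullback.fst f b).base z = π.base x := by
          rw [Scheme.Hom.comp_apply, hz]; rfl
        rw [hpre]
        change π.base x ∈ V k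
        rw [← hfst, show μ ≫ pullback.fst f b = pullback.fst _ _ ≫ (V k).ι from pullback.lift_fst _ _ _]
        exact ((pullback.fst ((V k).ι ≫ f) (Pk.ι ≫ b)).base z).2
      · intro x hx
        refine ⟨ρ.base ⟨x, hx⟩, ?_⟩
        rw [← Scheme.Hom.comp_apply, hρμ]
        rfl
    haveI : IsClosedImmersion ρ := by
      have hpb' : IsPullback ρ (h ⁻¹ᵁ Pk).ι μ g.imageι :=
        IsOpenImmersion.isPullback _ _ _ _ hρμ.symm (by rw [hpreμ, Scheme.Opens.opensRange_ι])
      exact MorphismProperty.of_isPullback hpb'.flip (inferInstanceAs (IsClosedImmersion g.imageι))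
    let toT : (h ⁻¹ᵁ Pk).toScheme ⟶ T := pullback.lift (h ∣_ Pk) q' (by
      rw [← cancel_mono Vk.ι]
      simp only [Category.assoc, morphismRestrict_ι, κ, (j k).liftCoborder_ι]
      rw [morphismRestrict_ι_assoc]
      have : (h ⁻¹ᵁ Pk).ι ≫ h ≫ p k = y ≫ Vk.ι := (morphismRestrict_ι (h ≫ p k) Vk).symm
      rw [this]
      simp only [q', Category.assoc]
      rw [← cancel_epi (d ≫ e), IsIso.hom_inv_id_assoc, Category.assoc]
      exact congrArg (fun m => d ≫ m) (pullback.condition_assoc (f := y) (g := κ) Vk.ι))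
    let γ : T ⟶ pullback ((V k).ι ≫ f) (Pk.ι ≫ b) :=
      pullback.lift (pullback.snd _ _) (pullback.fst _ _) (by
        rw [← hjb, ← hpb k, ← morphismRestrict_ι_assoc (p k) Vk,
          reassoc_of% pullback.condition (f := p k ∣_ Vk) (g := κ), (j k).liftCoborder_ι_assoc])
    haveI : IsClosedImmersion (pullback.fst (p k ∣_ Vk) κ) :=
      MorphismProperty.pullback_fst _ _ inferInstance
    haveI : IsSeparated (γ ≫ pullback.snd _ _) := by
      rw [pullback.lift_snd]; infer_instance
    haveI : IsSeparated γ := IsSeparated.of_comp γ (pullback.snd _ _)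
    haveI : IsClosedImmersion (toT ≫ γ) := by
      rw [show toT ≫ γ = ρ from by
        apply pullback.hom_ext <;> simp [toT, γ, ρ]]
      infer_instance
    haveI : IsClosedImmersion toT := IsClosedImmersion.of_comp toT γ
    refine ⟨Pk, hpre, ?_⟩
    rw [show h ∣_ Pk = toT ≫ pullback.fst _ _ from (pullback.lift_fst _ _ _).symm]
    infer_instance
  choose W hW hW' using key
  haveI : IsImmersion h := isImmersion_of_cover h W (by
    simp only [hW]
    rw [← Scheme.Hom.preimage_iSup, hV, Scheme.Hom.preimage_top]) hW'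
  refine ⟨M, g.image, π, h ≫ c, inferInstance, ?_, inferInstance, ?_, ?_, ?_,
    fun _ => IsSchemeTheoreticallyDominant.isReduced τ⟩
  · rw [Category.assoc, hcb, hπf]
  · -- isomorphism over `U`
    have hpU : τ ⁻¹ᵁ (π ⁻¹ᵁ U) = ⊤ := by
      rw [← Scheme.Hom.comp_preimage, hτπ, Scheme.Opens.ι_preimage_self]
    haveI := stdDominant_restrict τ (π ⁻¹ᵁ U)
    haveI : IsIso ((τ ∣_ (π ⁻¹ᵁ U)) ≫ (π ∣_ U)) := by
      have : (τ ∣_ (π ⁻¹ᵁ U)) ≫ (π ∣_ U) = (τ ⁻¹ᵁ (π ⁻¹ᵁ U)).ι := by
        rw [← cancel_mono U.ι, Category.assoc, morphismRestrict_ι, morphismRestrict_ι_assoc, hτπ]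
      rw [this, hpU, ← Scheme.topIso_hom]
      infer_instance
    haveI : IsClosedImmersion (τ ∣_ (π ⁻¹ᵁ U)) :=
      IsClosedImmersion.of_comp (τ ∣_ (π ⁻¹ᵁ U)) (π ∣_ U)
    haveI : IsIso (τ ∣_ (π ⁻¹ᵁ U)) :=
      IsClosedImmersion.isIso_iff_ker_eq_bot.mpr (Scheme.Hom.ker_eq_bot _)
    exact IsIso.of_isIso_comp_left (τ ∣_ (π ⁻¹ᵁ U)) (π ∣_ U)
  · refine Dense.mono ?_ (Scheme.Hom.denseRange τ)
    rintro _ ⟨x, rfl⟩
    change π.base (τ.base x) ∈ (U : Set X)
    rw [← Scheme.Hom.comp_apply, hτπ]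
    exact x.2
  · apply le_antisymm
    · rintro _ ⟨x, rfl⟩
      refine closure_mono ?_ (map_mem_closure π.continuous
        ((Scheme.Hom.denseRange τ).closure_range.ge (Set.mem_univ x)) (Set.mapsTo_image _ _))
      rintro _ ⟨_, ⟨z, rfl⟩, rfl⟩
      rw [← Scheme.Hom.comp_apply, hτπ]
      exact z.2
    · refine closure_minimal ?_ π.isClosedMap.isClosed_range
      intro x hx
      exact ⟨τ.base ⟨x, hx⟩, by rw [← Scheme.Hom.comp_apply, hτπ]; rfl⟩

end core

end GrothLib.Chow
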